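import Groth.Agent.BcQCalc.Criterion
import Groth.Agent.BcLim5.BcL

/-!
# The natural comparison of stalks of higher direct images with cohomology of strict localizations
-/

set_option autoImplicit false
set_option linter.unusedSectionVars false
set_option linter.unusedVariables false
set_option linter.style.haveILetI false
set_option backward.isDefEq.respectTransparency false
set_option backward.isDefEq.respectTransparency.types false

universe u

open CategoryTheory CategoryTheory.Limits AlgebraicGeometry Opposite Abelian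

noncomputable section

namespace Groth.Agent.BcQStalk5

open RpushStalk BcQCalc

attribute [local instance] EtFound.pull_preservesFiniteLimits

variable {X : Scheme.{u}}

/-- Classes of cycles are natural in the tower. -/
theorem cl_map : ∀ (q : ℕ) (T T' : Tower (EtCoh.Ab X)) (hT : T.IsExact) (hT' : T'.IsExact) (φ : Tower.Hom T T')
    (x : EtCoh.H X (T.Z q) 0), (cl q T hT x).comp (Ext.mk₀ (φ.z 0)) (add_zero q) =
      cl q T' hT' (x.comp (Ext.mk₀ (φ.z q)) (add_zero 0)) := by
  intro q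
  induction q with
  | zero => exact fun T T' hT hT' φ x => rfl
  | succ q ih =>
    intro T T' hT hT' φ x
    let τ : T.sc 0 ⟶ T'.sc 0 := ShortComplex.homMk (φ.z 0) (φ.x 0) (φ.z 1) (φ.comm_i 0).symm (φ.comm_p 0).symm
    have hn : (hT 0).extClass.comp (Ext.mk₀ τ.τ₁) (add_zero 1) = (Ext.mk₀ τ.τ₃).comp (hT' 0).extClass (zero_add 1) :=
      ShortComplex.ShortExact.extClass_naturality (hT 0) (hT' 0) τ
    show ((cl q T.shift hT.shift x).comp (hT 0).extClass rfl).comp (Ext.mk₀ τ.τ₁) (add_zero (q + 1)) = _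
    rw [Ext.comp_assoc_of_third_deg_zero, hn, ← Ext.comp_assoc_of_second_deg_zero]
    exact congrArg (fun r => Ext.comp r (hT' 0).extClass rfl) (ih T.shift T'.shift hT.shift hT'.shift φ.shift x)

variable {S T : Scheme.{u}} {R : Type u} [CommRing R] [HenselianLocalRing R]
  [IsSepClosed (IsLocalRing.ResidueField R)] {h : Spec (CommRingCat.of R) ⟶ S} (g : T ⟶ S)
  (D : Model S R h) [QuasiCompact g] [QuasiSeparated g]

include D in
theorem exists_chi (F : EtCoh.Ab T) (q : ℕ) :
    ∃ χ : ((EtCoh.stalk (EtFound.cpt R ≫ h)).obj ((EtCoh.Rpush g q).obj F)) →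
      EtCoh.H (pullback h g) ((EtCoh.pull (pullback.snd h g)).obj F) q,
      Function.Bijective χ ∧ ∀ z, χ (piStalk h g F q z) =
        (sigma h g F q z).comp (Ext.mk₀ ((EtCoh.pull (pullback.snd h g)).map (inv (aug F)))) (add_zero q) := by
  obtain ⟨χ, hχ, hχe⟩ := exists_bijective_comp_eq (piStalk h g F q) (sigma h g F q) (piStalk_surjective h g F q)
    (sigma_surjective h g F D q) (ker_piStalk_eq h g F D q)
  refine ⟨fun y => (χ y).comp (Ext.mk₀ ((EtCoh.pull (pullback.snd h g)).map (inv (aug F)))) (add_zero q),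
    (EtAcycLib.bijective_comp_mk₀ (asIso ((EtCoh.pull (pullback.snd h g)).map (inv (aug F))))).comp hχ,
    fun z => congrArg (fun r => Ext.comp r _ (add_zero q)) (hχe z)⟩

/-- The stalk of a higher direct image as the cohomology of the strict localization. -/
def chi (F : EtCoh.Ab T) (q : ℕ) : ((EtCoh.stalk (EtFound.cpt R ≫ h)).obj ((EtCoh.Rpush g q).obj F)) →
      EtCoh.H (pullback h g) ((EtCoh.pull (pullback.snd h g)).obj F) q :=
  (exists_chi g D F q).choose

theorem bijective_chi (F : EtCoh.Ab T) (q : ℕ) : Function.Bijective (chi g D F q) :=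
  (exists_chi g D F q).choose_spec.1

theorem chi_pi (F : EtCoh.Ab T) (q : ℕ) (z) : chi g D F q (piStalk h g F q z) =
    (sigma h g F q z).comp (Ext.mk₀ ((EtCoh.pull (pullback.snd h g)).map (inv (aug F)))) (add_zero q) :=
  (exists_chi g D F q).choose_spec.2 z

/-- The comparison is natural in the sheaf. -/
theorem chi_naturality {F G : EtCoh.Ab T} (v : F ⟶ G) (q : ℕ) (y) :
    chi g D G q ((EtCoh.stalk (EtFound.cpt R ≫ h)).map ((EtCoh.Rpush g q).map v) y) =
      (chi g D F q y).comp (Ext.mk₀ ((EtCoh.pull (pullback.snd h g)).map v)) (add_zero q) := by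
  obtain ⟨ψ, hψ₀⟩ := Tower.Hom.exists_of (T' := tw G) (tw_isExact F) (inv (aug F) ≫ v ≫ aug G)
  have hψ : aug F ≫ ψ.z 0 = v ≫ aug G := by rw [hψ₀, IsIso.hom_inv_id_assoc]
  obtain ⟨z, rfl⟩ := piStalk_surjective h g F q y
  have e1 : (EtCoh.stalk (EtFound.cpt R ≫ h)).map ((EtCoh.Rpush g q).map v) (piStalk h g F q z) =
      piStalk h g G q ((EtCoh.stalk (EtFound.cpt R ≫ h)).map ((EtCoh.push g).map (ψ.z q)) z) := by
    have := ConcreteCategory.congr_hom
      (congrArg (EtCoh.stalk (EtFound.cpt R ≫ h)).map (pic_rightDerived_map (EtCoh.push g) v ψ hψ q)) z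
    rw [Functor.map_comp, Functor.map_comp] at this
    exact this
  let r := pullback.snd h g
  have e2 : sigma h g G q ((EtCoh.stalk (EtFound.cpt R ≫ h)).map ((EtCoh.push g).map (ψ.z q)) z) =
      (sigma h g F q z).comp (Ext.mk₀ ((EtCoh.pull r).map (ψ.z 0))) (add_zero q) := by
    refine Eq.trans ?_ (cl_map q (twPull h g F) (twPull h g G) (twPull_isExact h g F) (twPull_isExact h g G)
      (ψ.map (EtCoh.pull r)) _).symm
    refine congrArg (cl q (twPull h g G) (twPull_isExact h g G)) ?_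
    refine Eq.trans ?_ (gm_naturality ((EtCoh.pull r).map (ψ.z q)) (phiApp h g ((tw F).Z q) z)).symm
    exact congrArg (gm _) (ConcreteCategory.congr_hom (phiApp_naturality h g (ψ.z q)) z)
  rw [e1, chi_pi, chi_pi, e2, Ext.comp_assoc_of_third_deg_zero, Ext.comp_assoc_of_third_deg_zero,
    Ext.mk₀_comp_mk₀, Ext.mk₀_comp_mk₀, ← Functor.map_comp, ← Functor.map_comp]
  refine congrArg (fun r' => Ext.comp (sigma h g F q z) (Ext.mk₀ ((EtCoh.pull r).map r')) (add_zero q)) ?_
  rw [IsIso.comp_inv_eq, Category.assoc, ← hψ, IsIso.inv_hom_id_assoc]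

variable {Y X' : Scheme.{u}} (f : X' ⟶ S) (h' : Y ⟶ X') (e : Y ⟶ T) (w : e ≫ g = h' ≫ f)
  [QuasiCompact h'] [QuasiSeparated h']
  {RX : Type u} [CommRing RX] [HenselianLocalRing RX] [IsSepClosed (IsLocalRing.ResidueField RX)]
  {hX : Spec (CommRingCat.of RX) ⟶ X'} (DX : Model X' RX hX)
  (ψ : Spec (CommRingCat.of RX) ⟶ Spec (CommRingCat.of R)) (hψ : ψ ≫ h = hX ≫ f)
  (l : Spec (CommRingCat.of (IsLocalRing.ResidueField RX)) ⟶ Spec (CommRingCat.of (IsLocalRing.ResidueField R)))
  (hl : l ≫ EtFound.cpt R = EtFound.cpt RX ≫ ψ)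

include hl in
theorem sigma_bcQ [PreservesFiniteLimits (EtCoh.pull e)] (F : EtCoh.Ab T) (q : ℕ)
    (φ : Tower.Hom ((tw F).map (EtCoh.pull e)) (tw ((EtCoh.pull e).obj F)))
    (z : (EtCoh.stalk (EtFound.cpt R ≫ h)).obj ((EtCoh.push g).obj ((tw F).Z q))) :
    EtLim.HpullThen (fibMap f g h' e w ψ hψ) ((twPull h g F).Z 0)
        ((squareHom (pullback.snd h g) (fibMap f g h' e w ψ hψ) (pullback.snd hX h') e
          (fibMap_snd f g h' e w ψ hψ) φ).z 0) q (sigma h g F q z) =
      sigma hX h' ((EtCoh.pull e).obj F) q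
        ((EtCoh.stalk (EtFound.cpt RX ≫ hX)).map ((EtCoh.push h').map (φ.z q))
          ((EtCoh.stalk (EtFound.cpt RX ≫ hX)).map (EtCoh.baseChange0 g f h' e w ((tw F).Z q))
            ((link f (EtFound.cpt R ≫ h) (EtFound.cpt RX ≫ hX) l (lcomp f ψ hψ l hl)).hom.app _ z))) := by
  refine (HpullThen_cl (fibMap f g h' e w ψ hψ) q (twPull h g F) (twPull_isExact h g F)
    (twPull hX h' ((EtCoh.pull e).obj F)) (twPull_isExact hX h' _)
    (squareHom (pullback.snd h g) (fibMap f g h' e w ψ hψ) (pullback.snd hX h') e (fibMap_snd f g h' e w ψ hψ) φ)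
    (gm _ (phiApp h g ((tw F).Z q) z))).trans ?_
  refine congrArg (cl q (twPull hX h' ((EtCoh.pull e).obj F)) (twPull_isExact hX h' _)) ?_
  refine (HpullThen_gm (fibMap f g h' e w ψ hψ) _ _).trans (congrArg (gm _) ?_)
  let x₁ := (EtCoh.stalk (EtFound.cpt RX ≫ hX)).map (EtCoh.baseChange0 g f h' e w ((tw F).Z q))
    ((link f (EtFound.cpt R ≫ h) (EtFound.cpt RX ≫ hX) l (lcomp f ψ hψ l hl)).hom.app _ z)
  have h2 := ConcreteCategory.congr_hom (phiApp_naturality hX h' (φ.z q)) x₁
  have h3 := stalk_baseChange0 f g h' e w ψ hψ l hl ((tw F).Z q) z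
  refine Eq.trans ?_ h2.symm
  refine Eq.trans (congrArg (fun r => EtLim8.res (fibMap f g h' e w ψ hψ) r
      (V := EtCoh.top (pullback h g)) (W := EtCoh.top (pullback hX h')) (fibMap f g h' e w ψ hψ)
      (EtLim8.top_w _) (phiApp h g ((tw F).Z q) z)) ((EtCoh.pullPushAdj (fibMap f g h' e w ψ hψ)).homEquiv_naturality_right
        (viaHom (pullback.snd h g) (fibMap f g h' e w ψ hψ) (pullback.snd hX h') e (fibMap_snd f g h' e w ψ hψ) ((tw F).Z q))
        ((EtCoh.pull (pullback.snd hX h')).map (φ.z q)))) ?_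
  refine (EtLim8.res_comp_push_map _ _ _ _ _).trans ?_
  exact congrArg (((EtCoh.pull (pullback.snd hX h')).map (φ.z q)).hom.app (op (EtCoh.top (pullback hX h')))).hom h3.symm

/-- The stalk of the base change morphism is the pullback between the strict localizations. -/
theorem chi_bcQ [PreservesFiniteLimits (EtCoh.pull e)] (F : EtCoh.Ab T) (q : ℕ)
    (y : (EtCoh.stalk (EtFound.cpt R ≫ h)).obj ((EtCoh.Rpush g q).obj F)) :
    chi h' DX ((EtCoh.pull e).obj F) q
        ((EtCoh.stalk (EtFound.cpt RX ≫ hX)).map (EtBC.bcQ g f h' e w q F)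
          ((link f (EtFound.cpt R ≫ h) (EtFound.cpt RX ≫ hX) l (lcomp f ψ hψ l hl)).hom.app _ y)) =
      (EtCore.Hpull (fibMap f g h' e w ψ hψ) _ q (chi g D F q y)).comp
        (Ext.mk₀ (viaHom (pullback.snd h g) (fibMap f g h' e w ψ hψ) (pullback.snd hX h') e
          (fibMap_snd f g h' e w ψ hψ) F)) (add_zero q) := by
  let η := EtFound.cpt RX ≫ hX
  let lk := link f (EtFound.cpt R ≫ h) η l (lcomp f ψ hψ l hl)
  obtain ⟨φ, hφ⟩ := exists_pullHom e F
  let r := pullback.snd h g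
  let r' := pullback.snd hX h'
  let m := fibMap f g h' e w ψ hψ
  let Φ := squareHom r m r' e (fibMap_snd f g h' e w ψ hψ) φ
  obtain ⟨z, rfl⟩ := piStalk_surjective h g F q y
  let az := (EtCoh.stalk η).map ((EtCoh.push h').map (φ.z q))
      ((EtCoh.stalk η).map (EtCoh.baseChange0 g f h' e w ((tw F).Z q)) (lk.hom.app _ z))
  have hb : (EtCoh.stalk η).map (EtBC.bcQ g f h' e w q F) (lk.hom.app _ (piStalk h g F q z)) =
      piStalk hX h' ((EtCoh.pull e).obj F) q az := by
    have n1 := ConcreteCategory.congr_hom (lk.hom.naturality (pic (EtCoh.push g) F q)) z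
    have n2 := ConcreteCategory.congr_hom
      (congrArg (EtCoh.stalk η).map (bcQ_pic g f h' e w F φ hφ q)) (lk.hom.app _ z)
    rw [Functor.map_comp, Functor.map_comp, Functor.map_comp] at n2
    exact (congrArg ((EtCoh.stalk η).map (EtBC.bcQ g f h' e w q F)) n1).trans n2
  have hc : EtLim.HpullThen m ((twPull h g F).Z 0) (Φ.z 0) q (sigma h g F q z) =
      sigma hX h' ((EtCoh.pull e).obj F) q az := sigma_bcQ g f h' e w ψ hψ l hl F q φ z
  rw [hb, chi_pi, chi_pi, ← hc, EtLim8.HpullThen_apply, S8536.Hpull_comp_mk₀, Ext.comp_assoc_of_third_deg_zero,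
    Ext.comp_assoc_of_third_deg_zero, Ext.mk₀_comp_mk₀, Ext.mk₀_comp_mk₀]
  refine congrArg (fun r₀ => Ext.comp (EtCore.Hpull m _ q (sigma h g F q z)) (Ext.mk₀ r₀) (add_zero q)) ?_
  show (viaHom r m r' e (fibMap_snd f g h' e w ψ hψ) ((tw F).Z 0) ≫ (EtCoh.pull r').map (φ.z 0)) ≫
    (EtCoh.pull r').map (inv (aug ((EtCoh.pull e).obj F))) = _
  rw [viaHom_naturality r m r' e (fibMap_snd f g h' e w ψ hψ) (inv (aug F)), Category.assoc, ← Functor.map_comp]
  refine congrArg (fun r₀ => viaHom r m r' e (fibMap_snd f g h' e w ψ hψ) ((tw F).Z 0) ≫ (EtCoh.pull r').map r₀) ?_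
  rw [IsIso.comp_inv_eq, ← hφ, ← Category.assoc, ← Functor.map_comp, IsIso.inv_hom_id,
    CategoryTheory.Functor.map_id, Category.id_comp]

end Groth.Agent.BcQStalk5
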