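import Groth.Agent.BcQStalk5.Low
import Mathlib.AlgebraicGeometry.Morphisms.QuasiSeparated

/-!
# Monomorphy of base change from base change in lower degrees
-/

set_option autoImplicit false
set_option linter.unusedSectionVars false
set_option linter.unusedVariables false
set_option linter.style.haveILetI false
set_option backward.isDefEq.respectTransparency false
set_option backward.isDefEq.respectTransparency.types false

universe u

open CategoryTheory CategoryTheory.Limits AlgebraicGeometry Opposite Abelian IsLocalRing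

noncomputable section

namespace Groth.Agent.BcQStalk5

open RpushStalk BcQCalc

attribute [local instance] EtFound.pull_preservesFiniteLimits

variable {S T X Y : Scheme.{u}} (f : X ⟶ S) (g : T ⟶ S) (h : Y ⟶ X) (e : Y ⟶ T) (c : IsPullback e h g f)
  [QuasiCompact g] [QuasiSeparated g] [PreservesFiniteLimits (EtCoh.pull e)]
  (N q : ℕ) (low : ∀ G : EtCoh.Ab T, EtCoh.KilledBy N G → ∀ a, a ≤ q → IsIso (EtBC.bcQ g f h e c.w a G))

include c low in
/-- The two local facts at every geometric point. -/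
theorem stalk_facts (Ω : Type u) [Field Ω] [IsSepClosed Ω] (ξ : Spec (CommRingCat.of Ω) ⟶ X) :
    (∀ F : EtCoh.Ab T, EtCoh.KilledBy N F →
      Function.Injective ((EtCoh.stalk ξ).map (EtBC.bcQ g f h e c.w (q + 1) F))) ∧
    ∀ (F G : EtCoh.Ab T) (ι : F ⟶ G), Mono ι → EtCoh.KilledBy N G →
      ∀ y, (EtCoh.stalk ξ).map ((EtCoh.Rpush h (q + 1)).map ((EtCoh.pull e).map ι)) y ∈
          Set.range ((EtCoh.stalk ξ).map (EtBC.bcQ g f h e c.w (q + 1) G)) →
        y ∈ Set.range ((EtCoh.stalk ξ).map (EtBC.bcQ g f h e c.w (q + 1) F)) := by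
  haveI : QuasiCompact h := MorphismProperty.of_isPullback c ‹QuasiCompact g›
  haveI : QuasiSeparated h := MorphismProperty.of_isPullback c ‹QuasiSeparated g›
  let x : X := ξ (closedPoint Ω)
  obtain ⟨RS, _, _, _, _, hRS⟩ := exists_strictHens (S.presheaf.stalk (f.base x))
  obtain ⟨RX, _, _, _, _, hRX⟩ := exists_strictHens (X.presheaf.stalk x)
  haveI : IsSepClosed (ResidueField RS) := isSepClosed_residueField_of_strict (S.presheaf.stalk (f.base x)) RS
  haveI : IsSepClosed (ResidueField RX) := isSepClosed_residueField_of_strict (X.presheaf.stalk x) RX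
  haveI : HenselianLocalRing RS := _root_.Hensel.IsStrictHenselization.henselian (R := S.presheaf.stalk (f.base x))
  haveI : HenselianLocalRing RX := _root_.Hensel.IsStrictHenselization.henselian (R := X.presheaf.stalk x)
  obtain ⟨ψ₀, hψl, hψ₀⟩ := exists_strictMap (R := RS) (R' := RX) (f.stalkMap x).hom
  haveI := hψl
  obtain ⟨DS⟩ := exists_model S (f.base x) RS
  obtain ⟨DX⟩ := exists_model X x RX
  have hψ := specMap_psi f x RS RX ψ₀ hψ₀
  have hl := residue_square ψ₀
  obtain ⟨l', hl'⟩ := exists_fac_geomPt ξ RX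
  let η := EtFound.cpt RX ≫ Hens2.specOf X x RX
  let θ : EtCoh.stalk η ≅ EtCoh.stalk (l' ≫ η) := EtFound.stalkExtIso AddCommGrpCat.{u + 1} η l'
  have hη : l' ≫ η = ξ := hl'
  rw [← hη]
  have key : ∀ {A B : EtCoh.Ab X} (v : A ⟶ B) (a : (EtCoh.stalk η).obj A),
      (EtCoh.stalk (l' ≫ η)).map v (θ.hom.app A a) = θ.hom.app B ((EtCoh.stalk η).map v a) := fun v a =>
    (ConcreteCategory.congr_hom (θ.hom.naturality v) a).symm
  refine ⟨fun F hF u u' huu => ?_, fun F G ι hι hG y hy => ?_⟩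
  · obtain ⟨u, rfl⟩ := (ConcreteCategory.bijective_of_isIso (θ.hom.app _)).2 u
    obtain ⟨u', rfl⟩ := (ConcreteCategory.bijective_of_isIso (θ.hom.app _)).2 u'
    rw [key, key] at huu
    exact congrArg _ (injective_stalk_bcQ f g h e c.w DS DX _ hψ _ hl N q low F hF
      ((ConcreteCategory.bijective_of_isIso (θ.hom.app _)).1 huu))
  · obtain ⟨y, rfl⟩ := (ConcreteCategory.bijective_of_isIso (θ.hom.app _)).2 y
    obtain ⟨u, hu⟩ := hy
    obtain ⟨u, rfl⟩ := (ConcreteCategory.bijective_of_isIso (θ.hom.app _)).2 u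
    rw [key, key] at hu
    haveI := hι
    obtain ⟨a, ha⟩ := mem_range_stalk_bcQ f g h e c.w DS DX _ hψ _ hl N q low ι hG y
      ⟨u, (ConcreteCategory.bijective_of_isIso (θ.hom.app _)).1 hu⟩
    exact ⟨θ.hom.app _ a, (key _ a).trans (congrArg _ ha)⟩

include c low in
/-- Base change in degree `q + 1` is a monomorphism. -/
theorem mono_bcQ (F : EtCoh.Ab T) (hF : EtCoh.KilledBy N F) : Mono (EtBC.bcQ g f h e c.w (q + 1) F) :=
  (EtFound.mono_iff_stalks _).2 fun Ω _ _ ξ => (stalk_facts f g h e c N q low Ω ξ).1 F hF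

include c low in
/-- A monomorphism induces a monomorphism of the cokernels of base change. -/
theorem exists_mono_cokernel {F G : EtCoh.Ab T} (ι : F ⟶ G) [Mono ι] (hG : EtCoh.KilledBy N G) :
    ∃ φ : cokernel (EtBC.bcQ g f h e c.w (q + 1) F) ⟶ cokernel (EtBC.bcQ g f h e c.w (q + 1) G), Mono φ ∧
      cokernel.π (EtBC.bcQ g f h e c.w (q + 1) F) ≫ φ =
        (EtCoh.Rpush h (q + 1)).map ((EtCoh.pull e).map ι) ≫ cokernel.π (EtBC.bcQ g f h e c.w (q + 1) G) := by
  let bF := EtBC.bcQ g f h e c.w (q + 1) F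
  let bG := EtBC.bcQ g f h e c.w (q + 1) G
  refine ⟨cokernel.map bF bG ((EtCoh.pull f).map ((EtCoh.Rpush g (q + 1)).map ι))
    ((EtCoh.Rpush h (q + 1)).map ((EtCoh.pull e).map ι)) (BcLim5.bcQ_naturality g f h e c.w ι (q + 1)).symm,
    (EtFound.mono_iff_stalks _).2 fun Ω _ _ ξ => ?_, cokernel.π_desc _ _ _⟩
  haveI : (EtCoh.stalk ξ).Additive := Functor.additive_of_preserves_binary_products _
  have hex : ∀ {A B : EtCoh.Ab X} (b : A ⟶ B) (v : (EtCoh.stalk ξ).obj B),
      (EtCoh.stalk ξ).map (cokernel.π b) v = 0 ↔ v ∈ Set.range ((EtCoh.stalk ξ).map b) := fun b v => by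
    let S' : ShortComplex (EtCoh.Ab X) := ShortComplex.mk b (cokernel.π b) (cokernel.condition b)
    have hS' : S'.Exact := ShortComplex.exact_of_g_is_cokernel S' (cokernelIsCokernel b)
    refine ⟨fun hv => (ShortComplex.ab_exact_iff _).1 (hS'.map (EtCoh.stalk ξ)) v hv, ?_⟩
    rintro ⟨t, rfl⟩
    exact congrArg (fun r => r.hom t) (S'.map (EtCoh.stalk ξ)).zero
  refine (injective_iff_map_eq_zero _).2 fun w hw => ?_
  obtain ⟨y, rfl⟩ := (AddCommGrpCat.epi_iff_surjective _).1
    (inferInstance : Epi ((EtCoh.stalk ξ).map (cokernel.π bF))) w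
  refine (hex bF y).2 ((stalk_facts f g h e c N q low Ω ξ).2 F G ι ‹Mono ι› hG y ((hex bG _).1 ?_))
  refine Eq.trans ?_ hw
  refine ((ConcreteCategory.congr_hom ((EtCoh.stalk ξ).map_comp _ _) y).symm.trans ?_).trans
    (ConcreteCategory.congr_hom ((EtCoh.stalk ξ).map_comp _ _) y)
  exact congrArg (fun r => (EtCoh.stalk ξ).map r y) (cokernel.π_desc _ _ _).symm

end Groth.Agent.BcQStalk5
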