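import Groth.Agent.BcQStalk5.Chi
import Groth.Agent.CompDescent5.Torsion

/-!
# Consequences of base change in lower degrees
-/

set_option autoImplicit false
set_option linter.unusedSectionVars false
set_option linter.unusedVariables false
set_option linter.style.haveILetI false
set_option backward.isDefEq.respectTransparency false
set_option backward.isDefEq.respectTransparency.types false

universe u

open CategoryTheory CategoryTheory.Limits AlgebraicGeometry Opposite Abelian IsLocalRing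

noncomputable section

namespace Groth.Agent.BcQStalk5

open RpushStalk BcQCalc

attribute [local instance] EtFound.pull_preservesFiniteLimits

/-- A sheaf killed by `N` embeds into one with no higher direct images. -/
theorem exists_embedding {T S : Scheme.{u}} (g : T ⟶ S) (N : ℕ) (F : EtCoh.Ab T) (hF : EtCoh.KilledBy N F) :
    ∃ (Sc : ShortComplex (EtCoh.Ab T)) (_ : Sc.ShortExact), Sc.X₁ = F ∧ EtCoh.KilledBy N Sc.X₂ ∧
      EtCoh.KilledBy N Sc.X₃ ∧ ∀ j, IsZero ((EtCoh.Rpush g (j + 1)).obj Sc.X₂) := by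
  let I := Injective.under F
  have hF' := (EtFound.killedBy_iff_nsmul N F).1 hF
  let b : F ⟶ kernel (N • 𝟙 I) := kernel.lift _ (Injective.ι F) (by
    rw [Preadditive.comp_nsmul, Category.comp_id, ← Category.id_comp (Injective.ι F),
      ← Preadditive.nsmul_comp, hF', zero_comp])
  haveI : Mono b := mono_of_mono_fac (kernel.lift_ι (N • 𝟙 I) (Injective.ι F) _)
  let Sc : ShortComplex (EtCoh.Ab T) := ShortComplex.mk b (cokernel.π b) (cokernel.condition b)
  have hS : Sc.ShortExact :=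
    { exact := ShortComplex.exact_of_g_is_cokernel _ (cokernelIsCokernel b)
      mono_f := inferInstanceAs (Mono b)
      epi_g := inferInstanceAs (Epi (cokernel.π b)) }
  have hT : N • 𝟙 (kernel (N • 𝟙 I)) = 0 := CompDescent5.nsmul_id_kernel N I
  refine ⟨Sc, hS, rfl, (EtFound.killedBy_iff_nsmul N _).2 hT,
    (EtFound.killedBy_iff_nsmul N _).2 (CompDescent5.nsmul_id_of_epi N (cokernel.π b) hT), fun j => ?_⟩
  rcases Nat.eq_zero_or_pos N with h0 | h0
  · haveI : Mono (kernel.ι (N • 𝟙 I)) := inferInstance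
    haveI : IsIso (kernel.ι (N • 𝟙 I)) := by
      subst h0
      rw [show (0 • 𝟙 I : I ⟶ I) = 0 from zero_smul _ _]
      infer_instance
    haveI : (EtCoh.push g).IsRightAdjoint := (EtCoh.pullPushAdj g).isRightAdjoint
    exact ((EtCoh.push g).isZero_rightDerived_obj_injective_succ j I).of_iso
      ((EtCoh.Rpush g (j + 1)).mapIso (asIso (kernel.ι (N • 𝟙 I))))
  · exact CompDescent5.isZero_Rpush_nTorsion I h0 g j

variable {S T X Y : Scheme.{u}} (f : X ⟶ S) (g : T ⟶ S) (h : Y ⟶ X) (e : Y ⟶ T) (w : e ≫ g = h ≫ f)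
  [QuasiCompact g] [QuasiSeparated g] [QuasiCompact h] [QuasiSeparated h] [PreservesFiniteLimits (EtCoh.pull e)]
  {RS RX : Type u} [CommRing RS] [HenselianLocalRing RS] [IsSepClosed (ResidueField RS)]
  [CommRing RX] [HenselianLocalRing RX] [IsSepClosed (ResidueField RX)]
  {hS : Spec (CommRingCat.of RS) ⟶ S} {hX : Spec (CommRingCat.of RX) ⟶ X}
  (DS : Model S RS hS) (DX : Model X RX hX)
  (ψ : Spec (CommRingCat.of RX) ⟶ Spec (CommRingCat.of RS)) (hψ : ψ ≫ hS = hX ≫ f)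
  (l : Spec (CommRingCat.of (ResidueField RX)) ⟶ Spec (CommRingCat.of (ResidueField RS)))
  (hl : l ≫ EtFound.cpt RS = EtFound.cpt RX ≫ ψ)

include DS in
theorem subsingleton_H_of_isZero (G : EtCoh.Ab T) (q : ℕ) (hG : IsZero ((EtCoh.Rpush g q).obj G)) :
    Subsingleton (EtCoh.H (pullback hS g) ((EtCoh.pull (pullback.snd hS g)).obj G) q) := by
  haveI : (EtCoh.stalk (EtFound.cpt RS ≫ hS)).Additive := Functor.additive_of_preserves_binary_products _
  haveI := AddCommGrpCat.subsingleton_of_isZero ((EtCoh.stalk (EtFound.cpt RS ≫ hS)).map_isZero hG)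
  exact (bijective_chi g DS G q).2.subsingleton

include DS DX hl in
theorem bijective_Hpull_of_isIso (G : EtCoh.Ab T) (q : ℕ) (hi : IsIso (EtBC.bcQ g f h e w q G)) :
    Function.Bijective (EtCore.Hpull (fibMap f g h e w ψ hψ) ((EtCoh.pull (pullback.snd hS g)).obj G) q) := by
  haveI := hi
  let v := viaHom (pullback.snd hS g) (fibMap f g h e w ψ hψ) (pullback.snd hX h) e (fibMap_snd f g h e w ψ hψ) G
  haveI : IsIso v := isIso_viaHom _ _ _ _ _ G
  let lk := link f (EtFound.cpt RS ≫ hS) (EtFound.cpt RX ≫ hX) l (lcomp f ψ hψ l hl)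
  have h1 : Function.Bijective fun y : (EtCoh.stalk (EtFound.cpt RS ≫ hS)).obj ((EtCoh.Rpush g q).obj G) =>
      chi h DX ((EtCoh.pull e).obj G) q
        ((EtCoh.stalk (EtFound.cpt RX ≫ hX)).map (EtBC.bcQ g f h e w q G) (lk.hom.app _ y)) :=
    (bijective_chi h DX _ q).comp ((ConcreteCategory.bijective_of_isIso
      ((EtCoh.stalk (EtFound.cpt RX ≫ hX)).map (EtBC.bcQ g f h e w q G))).comp
        (ConcreteCategory.bijective_of_isIso (lk.hom.app ((EtCoh.Rpush g q).obj G))))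
  have h2 : (fun x => x.comp (Ext.mk₀ (asIso v).hom) (add_zero q)) ∘
      ⇑(EtCore.Hpull (fibMap f g h e w ψ hψ) _ q) ∘ chi g DS G q = fun y => chi h DX ((EtCoh.pull e).obj G) q
        ((EtCoh.stalk (EtFound.cpt RX ≫ hX)).map (EtBC.bcQ g f h e w q G) (lk.hom.app _ y)) :=
    funext fun y => (chi_bcQ g DS f h e w DX ψ hψ l hl G q y).symm
  rw [← h2] at h1
  exact (Function.Bijective.of_comp_iff _ (bijective_chi g DS G q)).1
    ((Function.Bijective.of_comp_iff' (EtAcycLib.bijective_comp_mk₀ (asIso v)) _).1 h1)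

variable (N q : ℕ) (low : ∀ G : EtCoh.Ab T, EtCoh.KilledBy N G → ∀ a, a ≤ q → IsIso (EtBC.bcQ g f h e w a G))

include DS DX hψ hl low in
/-- Base change up to degree `q` gives injectivity of pullback between strict localizations in degree `q + 1`. -/
theorem injective_local (F : EtCoh.Ab T) (hF : EtCoh.KilledBy N F) :
    Function.Injective (EtCore.Hpull (fibMap f g h e w ψ hψ) ((EtCoh.pull (pullback.snd hS g)).obj F) (q + 1)) := by
  obtain ⟨Sc, hSc, rfl, h₂, h₃, hz⟩ := exists_embedding g N F hF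
  let r := pullback.snd hS g
  let m := fibMap f g h e w ψ hψ
  have hr := hSc.map_of_exact (EtCoh.pull r)
  have hsub : Subsingleton (EtCoh.H (pullback hS g) ((EtCoh.pull r).obj Sc.X₂) (q + 1)) :=
    subsingleton_H_of_isZero g DS Sc.X₂ (q + 1) (hz q)
  refine (injective_iff_map_eq_zero _).2 fun x hx => ?_
  obtain ⟨y, rfl⟩ := Ext.covariant_sequence_exact₁ _ hr x (hsub.allEq _ _) (rfl : q + 1 = q + 1)
  have hy : (EtCore.Hpull m ((EtCoh.pull r).obj Sc.X₃) q y).comp (hr.map_of_exact (EtCoh.pull m)).extClass rfl = 0 :=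
    (S8536.Hpull_comp_extClass m hr q y).symm.trans hx
  obtain ⟨z, hz'⟩ := Ext.covariant_sequence_exact₃ _ (hr.map_of_exact (EtCoh.pull m)) _ _ hy
  obtain ⟨z', rfl⟩ := (bijective_Hpull_of_isIso f g h e w DS DX ψ hψ l hl Sc.X₂ q (low _ h₂ q le_rfl)).2 z
  have hy' : z'.comp (Ext.mk₀ ((EtCoh.pull r).map Sc.g)) (add_zero q) = y :=
    (bijective_Hpull_of_isIso f g h e w DS DX ψ hψ l hl Sc.X₃ q (low _ h₃ q le_rfl)).1
      ((S8536.Hpull_comp_mk₀ m ((EtCoh.pull r).map Sc.g) q z').trans hz')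
  rw [← hy', Ext.comp_assoc_of_second_deg_zero]
  erw [hr.comp_extClass]
  rw [Ext.comp_zero]

include DS DX hψ hl low in
/-- A class whose image under a monomorphism comes from the base comes from the base. -/
theorem chase_local {Sc : ShortComplex (EtCoh.Ab T)} (hSc : Sc.ShortExact)
    (h₃ : EtCoh.KilledBy N Sc.X₃)
    (ξ : EtCoh.H (pullback hX h) ((EtCoh.pull (fibMap f g h e w ψ hψ)).obj
      ((EtCoh.pull (pullback.snd hS g)).obj Sc.X₁)) (q + 1))
    (η : EtCoh.H (pullback hS g) ((EtCoh.pull (pullback.snd hS g)).obj Sc.X₂) (q + 1))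
    (hη : EtCore.Hpull (fibMap f g h e w ψ hψ) _ (q + 1) η =
      ξ.comp (Ext.mk₀ ((EtCoh.pull (fibMap f g h e w ψ hψ)).map ((EtCoh.pull (pullback.snd hS g)).map Sc.f)))
        (add_zero (q + 1))) :
    ξ ∈ Set.range (EtCore.Hpull (fibMap f g h e w ψ hψ) ((EtCoh.pull (pullback.snd hS g)).obj Sc.X₁) (q + 1)) := by
  let r := pullback.snd hS g
  let m := fibMap f g h e w ψ hψ
  have hr := hSc.map_of_exact (EtCoh.pull r)
  have h0 : η.comp (Ext.mk₀ ((EtCoh.pull r).map Sc.g)) (add_zero (q + 1)) = 0 := by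
    refine injective_local f g h e w DS DX ψ hψ l hl N q low Sc.X₃ h₃ ?_
    rw [map_zero, S8536.Hpull_comp_mk₀, hη, Ext.comp_assoc_of_third_deg_zero, Ext.mk₀_comp_mk₀,
      ← Functor.map_comp, ← Functor.map_comp, Sc.zero, Functor.map_zero, Functor.map_zero, Ext.mk₀_zero, Ext.comp_zero]
  obtain ⟨η', hη'⟩ := Ext.covariant_sequence_exact₂ _ hr η h0
  let η₁ : EtCoh.H (pullback hS g) ((EtCoh.pull r).obj Sc.X₁) (q + 1) := η'
  have h1 : (ξ - EtCore.Hpull m ((EtCoh.pull r).obj Sc.X₁) (q + 1) η₁).comp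
      (Ext.mk₀ ((EtCoh.pull m).map ((EtCoh.pull r).map Sc.f))) (add_zero (q + 1)) = 0 := by
    rw [sub_eq_add_neg, Ext.add_comp, Ext.neg_comp, ← S8536.Hpull_comp_mk₀, ← hη]
    exact (congrArg (fun t => EtCore.Hpull m ((EtCoh.pull r).obj Sc.X₂) (q + 1) η + -EtCore.Hpull m ((EtCoh.pull r).obj Sc.X₂) (q + 1) t) hη').trans (add_neg_cancel _)
  obtain ⟨ζ, hζ⟩ := Ext.covariant_sequence_exact₁ _ (hr.map_of_exact (EtCoh.pull m)) _ h1 rfl
  obtain ⟨ζ', rfl⟩ := (bijective_Hpull_of_isIso f g h e w DS DX ψ hψ l hl Sc.X₃ q (low _ h₃ q le_rfl)).2 ζ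
  let ζ₁ : EtCoh.H (pullback hS g) ((EtCoh.pull r).obj Sc.X₁) (q + 1) := ζ'.comp hr.extClass rfl
  refine ⟨η₁ + ζ₁, ?_⟩
  refine (map_add (EtCore.Hpull m ((EtCoh.pull r).obj Sc.X₁) (q + 1)) η₁ ζ₁).trans ?_
  refine (congrArg (EtCore.Hpull m ((EtCoh.pull r).obj Sc.X₁) (q + 1) η₁ + ·)
    ((S8536.Hpull_comp_extClass m hr q ζ').trans hζ)).trans ?_
  exact add_sub_cancel _ _

include DS DX hψ hl low in
theorem injective_stalk_bcQ (F : EtCoh.Ab T) (hF : EtCoh.KilledBy N F) :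
    Function.Injective ((EtCoh.stalk (EtFound.cpt RX ≫ hX)).map (EtBC.bcQ g f h e w (q + 1) F)) := by
  let v := viaHom (pullback.snd hS g) (fibMap f g h e w ψ hψ) (pullback.snd hX h) e (fibMap_snd f g h e w ψ hψ) F
  haveI : IsIso v := isIso_viaHom _ _ _ _ _ F
  let lk := link f (EtFound.cpt RS ≫ hS) (EtFound.cpt RX ≫ hX) l (lcomp f ψ hψ l hl)
  intro u u' huu
  obtain ⟨y, rfl⟩ := (ConcreteCategory.bijective_of_isIso (lk.hom.app ((EtCoh.Rpush g (q + 1)).obj F))).2 u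
  obtain ⟨y', rfl⟩ := (ConcreteCategory.bijective_of_isIso (lk.hom.app ((EtCoh.Rpush g (q + 1)).obj F))).2 u'
  have h2 := congrArg (chi h DX ((EtCoh.pull e).obj F) (q + 1)) huu
  rw [chi_bcQ g DS f h e w DX ψ hψ l hl F (q + 1) y, chi_bcQ g DS f h e w DX ψ hψ l hl F (q + 1) y'] at h2
  exact congrArg _ ((bijective_chi g DS F (q + 1)).1 (injective_local f g h e w DS DX ψ hψ l hl N q low F hF
    ((EtAcycLib.bijective_comp_mk₀ (asIso v)).1 h2)))

include DS DX hψ hl low in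
theorem mem_range_stalk_bcQ {F G : EtCoh.Ab T} (ι : F ⟶ G) [Mono ι]
    (hG : EtCoh.KilledBy N G) (y : (EtCoh.stalk (EtFound.cpt RX ≫ hX)).obj ((EtCoh.Rpush h (q + 1)).obj ((EtCoh.pull e).obj F)))
    (hy : (EtCoh.stalk (EtFound.cpt RX ≫ hX)).map ((EtCoh.Rpush h (q + 1)).map ((EtCoh.pull e).map ι)) y ∈
      Set.range ((EtCoh.stalk (EtFound.cpt RX ≫ hX)).map (EtBC.bcQ g f h e w (q + 1) G))) :
    y ∈ Set.range ((EtCoh.stalk (EtFound.cpt RX ≫ hX)).map (EtBC.bcQ g f h e w (q + 1) F)) := by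
  let r := pullback.snd hS g
  let r' := pullback.snd hX h
  let m := fibMap f g h e w ψ hψ
  let lk := link f (EtFound.cpt RS ≫ hS) (EtFound.cpt RX ≫ hX) l (lcomp f ψ hψ l hl)
  let vF := viaHom r m r' e (fibMap_snd f g h e w ψ hψ) F
  let vG := viaHom r m r' e (fibMap_snd f g h e w ψ hψ) G
  haveI : IsIso vF := isIso_viaHom _ _ _ _ _ F
  haveI : IsIso vG := isIso_viaHom _ _ _ _ _ G
  let Sc : ShortComplex (EtCoh.Ab T) := ShortComplex.mk ι (cokernel.π ι) (cokernel.condition ι)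
  have hSc : Sc.ShortExact :=
    { exact := ShortComplex.exact_of_g_is_cokernel _ (cokernelIsCokernel ι)
      mono_f := inferInstanceAs (Mono ι)
      epi_g := inferInstanceAs (Epi (cokernel.π ι)) }
  have h₃ : EtCoh.KilledBy N Sc.X₃ := (EtFound.killedBy_iff_nsmul N _).2
    (CompDescent5.nsmul_id_of_epi N (cokernel.π ι) ((EtFound.killedBy_iff_nsmul N G).1 hG))
  obtain ⟨u, hu⟩ := hy
  obtain ⟨uS, rfl⟩ := (ConcreteCategory.bijective_of_isIso (lk.hom.app ((EtCoh.Rpush g (q + 1)).obj G))).2 u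
  let ξ := (chi h DX ((EtCoh.pull e).obj F) (q + 1) y).comp (Ext.mk₀ (inv vF)) (add_zero (q + 1))
  have hη : EtCore.Hpull m _ (q + 1) (chi g DS G (q + 1) uS) =
      ξ.comp (Ext.mk₀ ((EtCoh.pull m).map ((EtCoh.pull r).map ι))) (add_zero (q + 1)) := by
    refine (EtAcycLib.bijective_comp_mk₀ (asIso vG)).1 ?_
    refine ((chi_bcQ g DS f h e w DX ψ hψ l hl G (q + 1) uS).symm.trans
      ((congrArg (chi h DX _ (q + 1)) hu).trans (chi_naturality h DX ((EtCoh.pull e).map ι) (q + 1) y))).trans ?_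
    simp only [ξ, asIso_hom, Ext.comp_assoc_of_third_deg_zero, Ext.mk₀_comp_mk₀]
    rw [Category.assoc, show (EtCoh.pull m).map ((EtCoh.pull r).map ι) ≫ vG = vF ≫ (EtCoh.pull r').map ((EtCoh.pull e).map ι) from
      viaHom_naturality r m r' e (fibMap_snd f g h e w ψ hψ) ι, IsIso.inv_hom_id_assoc]
  obtain ⟨a, ha⟩ := chase_local f g h e w DS DX ψ hψ l hl N q low hSc h₃ ξ _ hη
  obtain ⟨aS, rfl⟩ := (bijective_chi g DS F (q + 1)).2 a
  refine ⟨lk.hom.app _ aS, (bijective_chi h DX _ (q + 1)).1 ?_⟩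
  refine (chi_bcQ g DS f h e w DX ψ hψ l hl F (q + 1) aS).trans ?_
  erw [ha]
  rw [Ext.comp_assoc_of_third_deg_zero, Ext.mk₀_comp_mk₀, IsIso.inv_hom_id, Ext.comp_mk₀_id]

end Groth.Agent.BcQStalk5
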